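import Cfsg.Agent.TwoFus.Basic
import Cfsg.Agent.Solv.Cores
import Cfsg.Agent.Coprime.AxB
import Cfsg.Prelude.Def_CaseTheorems

/-! Normalizers of 2-subgroups inherit characteristic 2 (Thompson's `A × B` argument). -/

set_option autoImplicit false

namespace Cfsg.Agent.CharTwo

open Cfsg

variable {G : Type*} [Group G] [Finite G]

/-- If `H` has characteristic 2 and contains the 2-subgroup `W` with its centralizer, then
`N_G(W)` has characteristic 2. -/
theorem normalizer_charTwo {H W : Subgroup G} (hH : IsOfCharacteristicTwo ↥H) (hW : IsPGroup 2 ↥W)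
    (hWH : W ≤ H) (hCW : Subgroup.centralizer (W : Set G) ≤ H) :
    IsOfCharacteristicTwo ↥(Subgroup.normalizer (W : Set G)) := by
  haveI : Fact (Nat.Prime 2) := ⟨Nat.prime_two⟩
  set N := Subgroup.normalizer (W : Set G) with hN
  obtain ⟨hQn, hQ2⟩ := Solv.pCore_mem (G := ↥N) 2
  haveI := hQn
  obtain ⟨hRn, hR2⟩ := Solv.pCore_mem (G := ↥H) 2
  haveI := hRn
  haveI hDn : (Subgroup.centralizer (pCore 2 ↥N : Set ↥N)).Normal := inferInstance
  set D := Subgroup.centralizer (pCore 2 ↥N : Set ↥N) with hD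
  have hWN : W ≤ N := Subgroup.le_normalizer
  have hWQ : W.subgroupOf N ≤ pCore 2 ↥N :=
    Solv.le_pCore Subgroup.normal_in_normalizer (hW.of_equiv (Subgroup.subgroupOfEquivOfLe hWN).symm)
  have hDC : ∀ d ∈ D, (d : G) ∈ Subgroup.centralizer (W : Set G) := by
    intro d hd
    refine Subgroup.mem_centralizer_iff.2 fun w hw => ?_
    exact congrArg Subtype.val (Subgroup.mem_centralizer_iff.1 hd ⟨w, hWN hw⟩ (hWQ hw))
  -- elements of odd order of `D` are trivial
  suffices hodd : ∀ x ∈ D, Odd (orderOf x) → x = 1 by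
    refine Solv.le_pCore hDn fun x => ?_
    obtain ⟨a, m, hm, hx⟩ := Nat.exists_eq_two_pow_mul_odd (orderOf_pos x).ne'
    refine ⟨a, Subtype.ext (hodd _ (x ^ 2 ^ a : ↥D).2 ?_)⟩
    rw [Subgroup.orderOf_coe, orderOf_pow_of_dvd (by positivity) (hx ▸ dvd_mul_right _ _), hx,
      Nat.mul_div_cancel_left _ (by positivity)]
    exact hm
  intro x hxD hxodd
  have hxH : (x : G) ∈ H := hCW (hDC x hxD)
  set R := (pCore 2 ↥H).map H.subtype with hR
  have hRH : R ≤ H := Subgroup.map_subtype_le _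
  have hHR : H ≤ Subgroup.normalizer (R : Set G) := by
    have := Subgroup.le_normalizer_map (H := pCore 2 ↥H) H.subtype
    rwa [Subgroup.normalizer_eq_top_iff.2 hRn, ← MonoidHom.range_eq_map, Subgroup.range_subtype] at this
  have hR2' : IsPGroup 2 ↥R := hR2.map _
  have hRW : IsPGroup 2 ↥(R ⊔ W) := hR2'.to_sup_of_normal_left' hW (hWH.trans hHR)
  have hxW : W ≤ Subgroup.centralizer {(x : G)} := fun w hw => Subgroup.mem_centralizer_iff.2 fun y hy => by
    rw [Set.mem_singleton_iff.1 hy]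
    exact (Subgroup.mem_centralizer_iff.1 (hDC x hxD) w hw).symm
  have hxRW : (x : G) ∈ Subgroup.normalizer ((R ⊔ W : Subgroup G) : Set G) := by
    refine TwoFus.mem_normalizer_of_conjMap_eq ?_
    rw [Subgroup.map_sup, TwoFus.conjMap_eq_of_mem_normalizer (hHR hxH)]
    congr 1
    refine TwoFus.conjMap_eq_of_mem_normalizer ?_
    exact x.2
  have hcop : (orderOf (x : G)).Coprime 2 := by
    rw [Subgroup.orderOf_coe]; exact Nat.coprime_two_right.2 hxodd
  have hkey : (R ⊔ W) ⊓ Subgroup.centralizer (W : Set G) ≤ Subgroup.centralizer {(x : G)} := by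
    rintro y ⟨hy, hyW⟩
    have hyH : y ∈ H := sup_le hRH hWH hy
    have hyN : y ∈ N := Subgroup.centralizer_le_normalizer _ hyW
    set k := y * (x : G) * y⁻¹ * (x : G)⁻¹ with hk
    -- the commutator lies in `R`
    have hkR : k ∈ R := by
      haveI : (R.subgroupOf H).Normal := Subgroup.normal_subgroupOf_of_le_normalizer hHR
      let π := QuotientGroup.mk' (R.subgroupOf H)
      have hcx : (⟨y, hyH⟩ : ↥H) ∈ (Subgroup.centralizer {π ⟨x, hxH⟩}).comap π := by
        have hle : R ⊔ W ≤ ((Subgroup.centralizer {π ⟨x, hxH⟩}).comap π).map H.subtype := by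
          refine sup_le ?_ ?_
          · intro r hr
            refine ⟨⟨r, hRH hr⟩, ?_, rfl⟩
            have : π ⟨r, hRH hr⟩ = 1 := (QuotientGroup.eq_one_iff _).2 hr
            simp [Subgroup.mem_centralizer_iff, this]
          · intro w hw
            refine ⟨⟨w, hWH hw⟩, Subgroup.mem_centralizer_iff.2 fun z hz => ?_, rfl⟩
            rw [Set.mem_singleton_iff.1 hz, ← map_mul, ← map_mul]
            exact congrArg π (Subtype.ext ((Subgroup.mem_centralizer_iff.1 (hxW hw)) (x : G) rfl))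
        obtain ⟨y', hy', e⟩ := hle hy
        rwa [show y' = (⟨y, hyH⟩ : ↥H) from Subtype.ext e] at hy'
      have h := Subgroup.mem_centralizer_iff.1 hcx _ rfl
      have h1 : π (⟨y, hyH⟩ * ⟨x, hxH⟩ * ⟨y, hyH⟩⁻¹ * ⟨x, hxH⟩⁻¹) = 1 := by
        rw [map_mul, map_mul, map_mul, map_inv, map_inv, ← h, mul_inv_cancel_right, mul_inv_cancel]
      exact Subgroup.mem_subgroupOf.1 ((QuotientGroup.eq_one_iff _).1 h1)
    -- and in a normal 2-subgroup of `D`
    have hkN : k ∈ N := N.mul_mem (N.mul_mem (N.mul_mem hyN x.2) (N.inv_mem hyN)) (N.inv_mem x.2)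
    have hkD : (⟨k, hkN⟩ : ↥N) ∈ D := by
      have := D.mul_mem (hDn.conj_mem x hxD ⟨y, hyN⟩) (D.inv_mem hxD)
      exact this
    set S := (R.comap N.subtype).subgroupOf D with hS
    have hSn : S.Normal := ⟨fun s hs d =>
      (Subgroup.mem_normalizer_iff.1 (hHR (hCW (hDC d d.2))) ((s : ↥N) : G)).1 hs⟩
    have hS2 : IsPGroup 2 ↥S := by
      refine (hR2'.of_injective (⟨⟨fun s => ⟨((s.1.1 : ↥N) : G), s.2⟩, rfl⟩, fun _ _ => rfl⟩ : ↥S →* ↥R) ?_)
      intro a b h
      exact Subtype.ext (Subtype.ext (Subtype.ext (congrArg Subtype.val h :)))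
    have hkQ : (⟨k, hkN⟩ : ↥N) ∈ pCore 2 ↥N := by
      have hsub : (S.map D.subtype).IsSubnormal :=
        Subgroup.IsSubnormal.trans' hSn.isSubnormal hDn.isSubnormal
      exact Solv.le_pCore_of_isSubnormal hsub (hS2.map _) ⟨⟨_, hkD⟩, hkR, rfl⟩
    have hkx : Commute k (x : G) :=
      congrArg Subtype.val (Subgroup.mem_centralizer_iff.1 hxD ⟨k, hkN⟩ hkQ)
    obtain ⟨j, hj⟩ := hQ2 ⟨_, hkQ⟩
    have hk2 : k ^ 2 ^ j = 1 := congrArg (fun q : ↥(pCore 2 ↥N) => ((q : ↥N) : G)) hj
    have hkn : k ^ orderOf (x : G) = 1 := by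
      have e : y * (x : G) * y⁻¹ = k * x := by rw [hk]; group
      have := congrArg (· ^ orderOf (x : G)) e
      simp only [conj_pow, pow_orderOf_eq_one, mul_one, mul_inv_cancel, hkx.mul_pow] at this
      exact this.symm
    have hk1 : k = 1 := orderOf_eq_one_iff.1 (Nat.eq_one_of_dvd_coprimes
      (hcop.pow_right j) (orderOf_dvd_of_pow_eq_one hkn) (orderOf_dvd_of_pow_eq_one hk2))
    refine Subgroup.mem_centralizer_iff.2 fun z hz => ?_
    rw [Set.mem_singleton_iff.1 hz]
    rw [hk, mul_inv_eq_one, mul_inv_eq_iff_eq_mul] at hk1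
    exact hk1.symm
  have hcent := CoprimeAct.le_centralizer_of_axb hRW hcop hxRW le_sup_right hxW hkey
  have hxR : (⟨x, hxH⟩ : ↥H) ∈ pCore 2 ↥H := hH (Subgroup.mem_centralizer_iff.2 fun r hr => Subtype.ext
    ((Subgroup.mem_centralizer_iff.1 (hcent (le_sup_left (b := W) ⟨r, hr, rfl⟩))) (x : G) rfl).symm)
  obtain ⟨j, hj⟩ := hR2 ⟨_, hxR⟩
  have hj' : (x : G) ^ 2 ^ j = 1 := congrArg (fun q : ↥(pCore 2 ↥H) => ((q : ↥H) : G)) hj
  exact Subtype.ext (orderOf_eq_one_iff.1 (Nat.eq_one_of_dvd_coprimes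
    (hcop.pow_right j) dvd_rfl (orderOf_dvd_of_pow_eq_one hj')))

/-- Base case: an involution whose centralizer has characteristic 2. -/
theorem normalizer_charTwo_of_mem {t : G} {W : Subgroup G}
    (ht : IsOfCharacteristicTwo ↥(Subgroup.centralizer ({t} : Set G))) (htW : t ∈ W)
    (hW : IsPGroup 2 ↥W) (hWC : W ≤ Subgroup.centralizer ({t} : Set G)) :
    IsOfCharacteristicTwo ↥(Subgroup.normalizer (W : Set G)) :=
  normalizer_charTwo ht hW hWC (Subgroup.centralizer_le (Set.singleton_subset_iff.2 htW))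

/-- Every 2-subgroup containing an involution with centralizer of characteristic 2. -/
theorem normalizer_charTwo_ge {t : G} {U : Subgroup G}
    (ht : IsOfCharacteristicTwo ↥(Subgroup.centralizer ({t} : Set G))) (htU : t ∈ U)
    (hU : IsPGroup 2 ↥U) : IsOfCharacteristicTwo ↥(Subgroup.normalizer (U : Set G)) := by
  haveI : Fact (Nat.Prime 2) := ⟨Nat.prime_two⟩
  suffices h : ∀ n, ∀ V : Subgroup G, V ≤ U → Nat.card ↥U - Nat.card ↥V = n →
      IsOfCharacteristicTwo ↥(Subgroup.normalizer (V : Set G)) →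
      IsOfCharacteristicTwo ↥(Subgroup.normalizer (U : Set G)) by
    refine h _ (U ⊓ Subgroup.centralizer ({t} : Set G)) inf_le_left rfl ?_
    exact normalizer_charTwo_of_mem ht ⟨htU, Subgroup.mem_centralizer_iff.2 fun y hy => by
      rw [Set.mem_singleton_iff.1 hy]⟩ (hU.to_le inf_le_left) inf_le_right
  intro n
  induction n using Nat.strong_induction_on with
  | _ n ih =>
    intro V hVU hn hV
    by_cases he : V = U
    · rwa [he] at hV
    set V' := U ⊓ Subgroup.normalizer (V : Set G) with hV'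
    have hlt : V < V' := by
      refine lt_of_le_of_ne (le_inf hVU Subgroup.le_normalizer) fun e => ?_
      haveI := hU.isNilpotent
      have htop : V.subgroupOf U ≠ ⊤ := fun e' => he (le_antisymm hVU (Subgroup.subgroupOf_eq_top.1 e'))
      have := Group.normalizerCondition_of_isNilpotent (G := ↥U) _ (lt_top_iff_ne_top.2 htop)
      refine (this.trans_le ?_).false
      rw [← Subgroup.subgroupOf_normalizer_eq hVU]
      intro x hx
      exact (Subgroup.mem_subgroupOf.2 (e ▸ (⟨x.2, hx⟩ : (x : G) ∈ U ⊓ Subgroup.normalizer (V : Set G))))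
    have hcard : Nat.card ↥V < Nat.card ↥V' := by
      rcases (Subgroup.card_le_of_le hlt.le).lt_or_eq with h' | h'
      · exact h'
      · exact absurd (Subgroup.eq_of_le_of_card_ge hlt.le h'.ge) hlt.ne
    have hle : Nat.card ↥V' ≤ Nat.card ↥U := Subgroup.card_le_of_le inf_le_left
    refine ih _ (by omega) V' inf_le_left rfl (normalizer_charTwo hV (hU.to_le inf_le_left) inf_le_right ?_)
    exact (Subgroup.centralizer_le (SetLike.coe_subset_coe.2 hlt.le)).trans
      (Subgroup.centralizer_le_normalizer _)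

end Cfsg.Agent.CharTwo
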